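/-
Elementary coprime-action lemmas: the commutator trick [q,x,x]=1 ⇒ [q,x]=1, Thompson's A × B lemma,
the largest normal p-subgroup / p'-subgroup as subgroups of an ambient group.
-/
import Mathlib.GroupTheory.Sylow
import Mathlib.GroupTheory.Nilpotent
import Cfsg.Prelude.Def_Solvable
import Cfsg.Prelude.Def_CaseTheorems

namespace Cfsg.Agent.AxB

variable {G : Type*} [Group G]

/-- If `x q x⁻¹ = q d` with `d` fixed by `x`, `x ^ n = 1` and `d` of order prime to `n`, then `d = 1`. -/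
theorem fixed_of_conj_eq_mul {q x d : G} {n : ℕ} (hxd : x * d = d * x) (hq : x * q * x⁻¹ = q * d)
    (hxn : x ^ n = 1) (hco : (orderOf d).Coprime n) : d = 1 := by
  have key : ∀ k : ℕ, x ^ k * q * (x ^ k)⁻¹ = q * d ^ k := by
    intro k
    induction k with
    | zero => simp
    | succ k ih =>
      have hd : x * d ^ k = d ^ k * x := (show Commute x d from hxd).pow_right k
      calc x ^ (k + 1) * q * (x ^ (k + 1))⁻¹
          = x * (x ^ k * q * (x ^ k)⁻¹) * x⁻¹ := by rw [pow_succ']; group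
        _ = x * q * (d ^ k * x⁻¹) := by rw [ih]; group
        _ = x * q * x⁻¹ * (x * d ^ k * x⁻¹) := by group
        _ = q * d * d ^ k := by rw [hq, hd]; group
        _ = q * d ^ (k + 1) := by rw [pow_succ']; group
  have h := key n
  rw [hxn] at h
  have h1 : d ^ n = 1 := by simpa using h.symm
  have h2 : orderOf d ∣ n := orderOf_dvd_of_pow_eq_one h1
  have h3 : orderOf d = 1 := Nat.Coprime.eq_one_of_dvd hco h2
  exact orderOf_eq_one_iff.1 h3

theorem coprime_orderOf_of_mem [Finite G] {p n : ℕ} [Fact p.Prime] {P : Subgroup G}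
    (hP : IsPGroup p P) {d : G} (hd : d ∈ P) (hn : p.Coprime n) : (orderOf d).Coprime n := by
  obtain ⟨k, hk⟩ := IsPGroup.iff_orderOf.mp hP ⟨d, hd⟩
  rw [Subgroup.orderOf_mk] at hk
  rw [hk]
  exact Nat.Coprime.pow_left k hn

/-- In a nilpotent ambient subgroup, `⁅M, A⁆ = M` forces `M` trivial. -/
theorem eq_bot_of_commutator_eq {Q M A : Subgroup G} [Group.IsNilpotent Q] (hM : M ≤ Q) (hA : A ≤ Q)
    (h : ⁅M, A⁆ = M) : M = ⊥ := by
  obtain ⟨n, hn⟩ := (Subgroup.isNilpotent_iff_lowerCentralSeries Q).1 inferInstance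
  have key : ∀ m, M ≤ Q.lowerCentralSeries m := by
    intro m
    induction m with
    | zero => simpa using hM
    | succ m ih =>
      rw [Subgroup.lowerCentralSeries_succ]
      exact h ▸ Subgroup.commutator_mono ih hA
  exact le_bot_iff.1 (hn ▸ key n)

theorem map_conj_eq_of_mem_normalizer {H : Subgroup G} {a : G}
    (ha : a ∈ Subgroup.normalizer (H : Set G)) : H.map (MulAut.conj a).toMonoidHom = H := by
  ext x
  constructor
  · rintro ⟨y, hy, rfl⟩
    exact (Subgroup.mem_normalizer_iff.1 ha y).1 hy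
  · intro hx
    refine ⟨a⁻¹ * x * a, ?_, ?_⟩
    · exact (Subgroup.mem_normalizer_iff.1 ha (a⁻¹ * x * a)).2 (by simpa [mul_assoc] using hx)
    · simp [mul_assoc]

theorem le_normalizer_commutator_right [Finite G] {M A : Subgroup G}
    (h : A ≤ Subgroup.normalizer (M : Set G)) :
    A ≤ Subgroup.normalizer ((⁅M, A⁆ : Subgroup G) : Set G) := by
  intro a ha
  have hconj : ∀ b ∈ A, ∀ y ∈ (⁅M, A⁆ : Subgroup G), b * y * b⁻¹ ∈ (⁅M, A⁆ : Subgroup G) := by
    intro b hb y hy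
    have h1 : (⁅M, A⁆ : Subgroup G).map (MulAut.conj b).toMonoidHom = ⁅M, A⁆ := by
      rw [Subgroup.map_commutator, map_conj_eq_of_mem_normalizer (h hb),
        map_conj_eq_of_mem_normalizer (Subgroup.le_normalizer hb)]
    have h2 : (MulAut.conj b).toMonoidHom y ∈ (⁅M, A⁆ : Subgroup G).map (MulAut.conj b).toMonoidHom :=
      Subgroup.mem_map_of_mem _ hy
    rw [h1] at h2
    simpa using h2
  rw [Subgroup.mem_normalizer_iff]
  intro y
  refine ⟨hconj a ha y, fun hy => ?_⟩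
  have := hconj a⁻¹ (inv_mem ha) _ hy
  simpa [mul_assoc] using this

/-- Thompson's `A × B` lemma: if the `p`-group `A` and the `p'`-element `x` commute, both normalise the
`p`-group `P`, and `x` centralises `C_P(A)`, then `x` centralises `P`. -/
theorem thompson [Finite G] {p n : ℕ} [Fact p.Prime] {P A : Subgroup G} {x : G}
    (hP : IsPGroup p P) (hA : IsPGroup p A) (hAP : A ≤ Subgroup.normalizer (P : Set G))
    (hxP : ∀ y ∈ P, x * y * x⁻¹ ∈ P) (hxA : ∀ a ∈ A, a * x = x * a)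
    (hxn : x ^ n = 1) (hpn : p.Coprime n)
    (hC : ∀ y ∈ P, (∀ a ∈ A, a * y = y * a) → x * y = y * x) :
    ∀ y ∈ P, x * y = y * x := by
  classical
  by_contra hne
  push Not at hne
  obtain ⟨y₀, hy₀P, hy₀⟩ := hne
  have hQ : IsPGroup p (P ⊔ A : Subgroup G) := hP.to_sup_of_normal_left' hA hAP
  have : Group.IsNilpotent (P ⊔ A : Subgroup G) := hQ.isNilpotent
  let S : Set (Subgroup G) := {M | M ≤ P ∧ A ≤ Subgroup.normalizer (M : Set G) ∧
    ∃ y ∈ M, x * y ≠ y * x}
  have hPS : P ∈ S := ⟨le_rfl, hAP, y₀, hy₀P, hy₀⟩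
  obtain ⟨M, hMS, hMmin⟩ := (Set.toFinite S).exists_minimal ⟨P, hPS⟩
  obtain ⟨hMP, hAM, y, hyM, hy⟩ := hMS
  have hle : ⁅M, A⁆ ≤ M := (Subgroup.le_normalizer_iff_commutator_le_left).1 hAM
  have hcomm : ∀ z ∈ (⁅M, A⁆ : Subgroup G), x * z = z * x := by
    intro z hz
    by_contra hzne
    have hS : ⁅M, A⁆ ∈ S := ⟨hle.trans hMP, le_normalizer_commutator_right hAM, z, hz, hzne⟩
    have heq : ⁅M, A⁆ = M := le_antisymm hle (hMmin hS hle)
    have hbot := eq_bot_of_commutator_eq (Q := P ⊔ A) (hMP.trans le_sup_left) le_sup_right heq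
    rw [hbot, Subgroup.mem_bot] at hyM
    exact hy (by rw [hyM]; simp)
  have hd : y⁻¹ * (x * y * x⁻¹) ∈ P := mul_mem (inv_mem (hMP hyM)) (hxP y (hMP hyM))
  have hdA : ∀ a ∈ A, a * (y⁻¹ * (x * y * x⁻¹)) = (y⁻¹ * (x * y * x⁻¹)) * a := by
    intro a ha
    have hc : y * a * y⁻¹ * a⁻¹ ∈ (⁅M, A⁆ : Subgroup G) :=
      Subgroup.commutator_mem_commutator hyM ha
    have hcx : Commute x (y * a * y⁻¹ * a⁻¹) := hcomm _ hc
    have hax : Commute x a := (hxA a ha).symm
    have h1 : Commute x (y * a * y⁻¹) := by simpa using hcx.mul_right hax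
    have h3 : (x * y * x⁻¹) * a * (x * y * x⁻¹)⁻¹ = y * a * y⁻¹ := by
      calc (x * y * x⁻¹) * a * (x * y * x⁻¹)⁻¹
          = x * y * (x⁻¹ * (a * x)) * y⁻¹ * x⁻¹ := by group
        _ = x * y * (x⁻¹ * (x * a)) * y⁻¹ * x⁻¹ := by rw [hxA a ha]
        _ = x * (y * a * y⁻¹) * x⁻¹ := by group
        _ = y * a * y⁻¹ := by rw [h1.eq]; group
    calc a * (y⁻¹ * (x * y * x⁻¹)) = y⁻¹ * (y * a * y⁻¹) * (x * y * x⁻¹) := by group
      _ = (y⁻¹ * (x * y * x⁻¹)) * a := by rw [← h3]; group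
  have hxd := hC _ hd hdA
  have h1 := fixed_of_conj_eq_mul (q := y) hxd (by group) hxn (coprime_orderOf_of_mem hP hd hpn)
  apply hy
  calc x * y = y * (y⁻¹ * (x * y * x⁻¹)) * x := by group
    _ = y * x := by rw [h1, mul_one]

/-- A commutator of a `p`-group element fixed modulo a centralised piece: `[q,x,x]=1 ⇒ [q,x]=1`. -/
theorem commute_of_conj_mem [Finite G] {p n : ℕ} [Fact p.Prime] {P : Subgroup G} (hP : IsPGroup p P)
    {q x : G} (hd : q⁻¹ * (x * q * x⁻¹) ∈ P) (hxd : x * (q⁻¹ * (x * q * x⁻¹)) = q⁻¹ * (x * q * x⁻¹) * x)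
    (hxn : x ^ n = 1) (hpn : p.Coprime n) : x * q = q * x := by
  have h1 := fixed_of_conj_eq_mul (q := q) hxd (by group) hxn (coprime_orderOf_of_mem hP hd hpn)
  calc x * q = q * (q⁻¹ * (x * q * x⁻¹)) * x := by group
    _ = q * x := by rw [h1, mul_one]

/-! ### cores -/

theorem sSup_induction_normal [Finite G] (P : Subgroup G → Prop) (hbot : P ⊥)
    (hsup : ∀ H K : Subgroup G, H.Normal → K.Normal → P H → P K → P (H ⊔ K)) (s : Set (Subgroup G))
    (hs : ∀ H ∈ s, H.Normal ∧ P H) : P (sSup s) := by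
  induction s, s.toFinite using Set.Finite.induction_on with
  | empty => simpa using hbot
  | insert _ _ ih =>
    rw [sSup_insert]
    have hs' := fun H hH => hs H (Set.mem_insert_of_mem _ hH)
    exact hsup _ _ (hs _ (Set.mem_insert _ _)).1 (Subgroup.sSup_normal _ fun H hH => (hs' H hH).1)
      (hs _ (Set.mem_insert _ _)).2 (ih hs')

theorem isPGroup_pCore [Finite G] (p : ℕ) [Fact p.Prime] : IsPGroup p (Cfsg.pCore p G) :=
  sSup_induction_normal (fun H => IsPGroup p H) IsPGroup.of_bot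
    (fun H _ hHn _ hH hK => @IsPGroup.to_sup_of_normal_left p G _ H _ hH hK hHn) _ fun _ h => h

theorem le_pCore {p : ℕ} {N : Subgroup G} (hN : N.Normal) (h : IsPGroup p N) :
    N ≤ Cfsg.pCore p G :=
  le_sSup ⟨hN, h⟩

theorem le_pPrimeCore {p : ℕ} {N : Subgroup G} (hN : N.Normal) (h : (Nat.card N).Coprime p) :
    N ≤ Cfsg.pPrimeCore p G :=
  le_sSup ⟨hN, h⟩

theorem card_sup_dvd [Finite G] (H K : Subgroup G) [K.Normal] :
    Nat.card (H ⊔ K : Subgroup G) ∣ Nat.card H * Nat.card K := by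
  have h1 : Nat.card K * K.relIndex (H ⊔ K) = Nat.card (H ⊔ K : Subgroup G) := by
    rw [Subgroup.relIndex, ← Subgroup.card_mul_index (K.subgroupOf (H ⊔ K))]
    congr 1
    exact (Nat.card_congr (Subgroup.subgroupOfEquivOfLe le_sup_right).toEquiv).symm
  rw [← h1, Subgroup.relIndex_sup_right, mul_comm (Nat.card H)]
  exact Nat.mul_dvd_mul_left _ (Subgroup.relIndex_dvd_card K H)

theorem coprime_card_pPrimeCore [Finite G] (p : ℕ) :
    (Nat.card (Cfsg.pPrimeCore p G)).Coprime p :=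
  sSup_induction_normal (fun H => (Nat.card H).Coprime p) (by simp)
    (fun H K _ hKn hH hK => Nat.Coprime.coprime_dvd_left
      (@card_sup_dvd G _ _ H K hKn) (hH.mul_left hK)) _ fun _ h => h

theorem isPGroup_pCoreOf [Finite G] (p : ℕ) [Fact p.Prime] (H : Subgroup G) :
    IsPGroup p ((Cfsg.pCore p H).map H.subtype) :=
  (isPGroup_pCore p).map _

theorem le_normalizer_map_subtype {H : Subgroup G} {N : Subgroup H} (hN : N.Normal) :
    H ≤ Subgroup.normalizer ((N.map H.subtype : Subgroup G) : Set G) := by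
  intro h hh
  rw [Subgroup.mem_normalizer_iff]
  intro y
  constructor
  · rintro ⟨z, hz, rfl⟩
    exact ⟨⟨h, hh⟩ * z * ⟨h, hh⟩⁻¹, hN.conj_mem z hz _, rfl⟩
  · rintro ⟨z, hz, hzy⟩
    refine ⟨⟨h, hh⟩⁻¹ * z * ⟨h, hh⟩, by simpa using hN.conj_mem z hz (⟨h, hh⟩⁻¹), ?_⟩
    simp only [Subgroup.coe_subtype] at hzy
    simp [hzy, mul_assoc]

theorem le_pCoreOf {p : ℕ} {H N : Subgroup G} (hle : N ≤ H)
    (hn : H ≤ Subgroup.normalizer (N : Set G)) (hp : IsPGroup p N) :
    N ≤ (Cfsg.pCore p H).map H.subtype := by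
  have h1 : N.subgroupOf H ≤ Cfsg.pCore p H :=
    le_pCore ((Subgroup.normal_subgroupOf_iff_le_normalizer hle).2 hn)
      (hp.of_equiv (Subgroup.subgroupOfEquivOfLe hle).symm)
  intro y hy
  exact ⟨⟨y, hle hy⟩, h1 hy, rfl⟩

theorem le_pPrimeCoreOf {p : ℕ} {H N : Subgroup G} (hle : N ≤ H)
    (hn : H ≤ Subgroup.normalizer (N : Set G)) (hp : (Nat.card N).Coprime p) :
    N ≤ (Cfsg.pPrimeCore p H).map H.subtype := by
  have h1 : N.subgroupOf H ≤ Cfsg.pPrimeCore p H :=
    le_pPrimeCore ((Subgroup.normal_subgroupOf_iff_le_normalizer hle).2 hn)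
      (by rwa [Nat.card_congr (Subgroup.subgroupOfEquivOfLe hle).toEquiv])
  intro y hy
  exact ⟨⟨y, hle hy⟩, h1 hy, rfl⟩

theorem coprime_card_pPrimeCoreOf [Finite G] (p : ℕ) (H : Subgroup G) :
    (Nat.card ((Cfsg.pPrimeCore p H).map H.subtype : Subgroup G)).Coprime p := by
  rw [Subgroup.card_map_of_injective H.subtype_injective]
  exact coprime_card_pPrimeCore p

/-- Two subgroups normalising each other with coprime orders commute. -/
theorem commute_of_coprime [Finite G] {H K : Subgroup G} (hHK : H ≤ Subgroup.normalizer (K : Set G))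
    (hKH : K ≤ Subgroup.normalizer (H : Set G)) (hco : (Nat.card H).Coprime (Nat.card K))
    {h k : G} (hh : h ∈ H) (hk : k ∈ K) : h * k = k * h := by
  have h1 : h * k * h⁻¹ * k⁻¹ ∈ H := by
    have := (Subgroup.mem_normalizer_iff.1 (hKH hk) h⁻¹).1 (inv_mem hh)
    simpa [mul_assoc] using mul_mem hh this
  have h2 : h * k * h⁻¹ * k⁻¹ ∈ K :=
    mul_mem ((Subgroup.mem_normalizer_iff.1 (hHK hh) k).1 hk) (inv_mem hk)
  have h3 : h * k * h⁻¹ * k⁻¹ = 1 := by
    have := (Subgroup.disjoint_of_coprime_natCard hco).eq_bot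
    exact (Subgroup.eq_bot_iff_forall _).1 this _ ⟨h1, h2⟩
  calc h * k = (h * k * h⁻¹ * k⁻¹) * (k * h) := by group
    _ = k * h := by rw [h3, one_mul]

end Cfsg.Agent.AxB
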