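/-
Orders of products of two subgroups and the Chermak–Delgado inequality.
-/
import Mathlib.GroupTheory.Index
import Mathlib.GroupTheory.Subgroup.Centralizer
import Mathlib.Algebra.Group.Subgroup.Pointwise
import Mathlib.GroupTheory.QuotientGroup.Finite
import Mathlib.Tactic.Ring
import Mathlib.Tactic.Group

namespace Cfsg.Agent.Product

open Subgroup
open scoped Pointwise

variable {G : Type*} [Group G] [Finite G]

omit [Finite G] in
theorem card_eq_inf_mul_relIndex (H K : Subgroup G) :
    Nat.card H = Nat.card (H ⊓ K : Subgroup G) * K.relIndex H := by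
  rw [relIndex, ← card_mul_index (K.subgroupOf H)]
  congr 1
  rw [inf_comm, ← subgroupOf_map_subtype, card_map_of_injective H.subtype_injective]

theorem relIndex_ne_zero' (H K : Subgroup G) : K.relIndex H ≠ 0 :=
  index_ne_zero_of_finite

theorem card_mul_card_le (H K : Subgroup G) :
    Nat.card H * Nat.card K ≤ Nat.card (H ⊔ K : Subgroup G) * Nat.card (H ⊓ K : Subgroup G) := by
  rw [card_eq_inf_mul_relIndex H K, card_eq_inf_mul_relIndex (H ⊔ K) K,
    inf_of_le_right (le_sup_right : K ≤ H ⊔ K)]
  have h := relIndex_le_of_le_right (H := K) (le_sup_left : H ≤ H ⊔ K) (relIndex_ne_zero' _ _)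
  calc Nat.card (H ⊓ K : Subgroup G) * K.relIndex H * Nat.card K
      = Nat.card (H ⊓ K : Subgroup G) * Nat.card K * K.relIndex H := by ring
    _ ≤ Nat.card (H ⊓ K : Subgroup G) * Nat.card K * K.relIndex (H ⊔ K) := Nat.mul_le_mul_left _ h
    _ = _ := by ring

/-- If the product inequality is an equality, the join is the product set. -/
theorem coe_sup_eq_mul (H K : Subgroup G)
    (h : Nat.card (H ⊔ K : Subgroup G) * Nat.card (H ⊓ K : Subgroup G) ≤ Nat.card H * Nat.card K) :
    ((H ⊔ K : Subgroup G) : Set G) = (H : Set G) * (K : Set G) := by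
  classical
  rw [card_eq_inf_mul_relIndex H K, card_eq_inf_mul_relIndex (H ⊔ K) K,
    inf_of_le_right (le_sup_right : K ≤ H ⊔ K)] at h
  have h1 : K.relIndex (H ⊔ K) ≤ K.relIndex H := by
    have hpos : 0 < Nat.card (H ⊓ K : Subgroup G) * Nat.card K :=
      Nat.mul_pos (Nat.card_pos (α := ↥(H ⊓ K))) (Nat.card_pos (α := ↥K))
    suffices h2 : Nat.card (H ⊓ K : Subgroup G) * Nat.card K * K.relIndex (H ⊔ K) ≤
        Nat.card (H ⊓ K : Subgroup G) * Nat.card K * K.relIndex H from
      Nat.le_of_mul_le_mul_left h2 hpos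
    calc _ = Nat.card K * K.relIndex (H ⊔ K) * Nat.card (H ⊓ K : Subgroup G) := by ring
      _ ≤ _ := h
      _ = _ := by ring
  let e := quotientSubgroupOfEmbeddingOfLE K (le_sup_left : H ≤ H ⊔ K)
  have := Fintype.ofFinite (↥H ⧸ K.subgroupOf H)
  have := Fintype.ofFinite (↥(H ⊔ K) ⧸ K.subgroupOf (H ⊔ K))
  have h1' : Nat.card (↥(H ⊔ K) ⧸ K.subgroupOf (H ⊔ K)) ≤ Nat.card (↥H ⧸ K.subgroupOf H) := h1
  have hsurj : Function.Surjective e :=
    (Function.Injective.bijective_of_nat_card_le e.injective h1').2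
  refine Set.Subset.antisymm ?_ ?_
  · intro x hx
    obtain ⟨q, hq⟩ := hsurj (QuotientGroup.mk (⟨x, hx⟩ : ↥(H ⊔ K)))
    obtain ⟨a, rfl⟩ := QuotientGroup.mk_surjective q
    rw [quotientSubgroupOfEmbeddingOfLE_apply_mk, QuotientGroup.eq, mem_subgroupOf] at hq
    exact ⟨a, a.2, _, hq, by simp⟩
  · rintro x ⟨a, ha, b, hb, rfl⟩
    exact mul_mem (le_sup_left (b := K) ha) (le_sup_right (a := H) hb)

omit [Finite G] in
theorem centralizer_sup (H K : Subgroup G) :
    centralizer ((H ⊔ K : Subgroup G) : Set G) =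
      centralizer (H : Set G) ⊓ centralizer (K : Set G) := by
  refine le_antisymm (le_inf (centralizer_le (le_sup_left (b := K))) (centralizer_le (le_sup_right (a := H)))) ?_
  rw [le_centralizer_iff]
  exact sup_le (le_centralizer_iff.1 inf_le_left) (le_centralizer_iff.1 inf_le_right)

omit [Finite G] in
theorem centralizer_sup_le (H K : Subgroup G) :
    centralizer (H : Set G) ⊔ centralizer (K : Set G) ≤
      centralizer ((H ⊓ K : Subgroup G) : Set G) :=
  sup_le (centralizer_le (inf_le_left (b := K))) (centralizer_le (inf_le_right (a := H)))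

/-- `|H| · |C(H)|`. -/
noncomputable def measure (H : Subgroup G) : ℕ :=
  Nat.card H * Nat.card (centralizer (H : Set G))

theorem measure_mul_le (H K : Subgroup G) :
    measure H * measure K ≤ measure (H ⊔ K) * measure (H ⊓ K) := by
  unfold measure
  rw [centralizer_sup]
  have h1 := card_mul_card_le H K
  have h2 := card_mul_card_le (centralizer (H : Set G)) (centralizer (K : Set G))
  have h3 := Nat.le_of_dvd Nat.card_pos (card_dvd_of_le (centralizer_sup_le H K))
  calc Nat.card H * Nat.card (centralizer (H : Set G)) * (Nat.card K * Nat.card (centralizer (K : Set G)))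
      = (Nat.card H * Nat.card K) * (Nat.card (centralizer (H : Set G)) * Nat.card (centralizer (K : Set G))) := by
        ring
    _ ≤ (Nat.card (H ⊔ K : Subgroup G) * Nat.card (H ⊓ K : Subgroup G)) *
        (Nat.card (centralizer ((H ⊓ K : Subgroup G) : Set G)) *
          Nat.card (centralizer (H : Set G) ⊓ centralizer (K : Set G) : Subgroup G)) :=
        Nat.mul_le_mul h1 (h2.trans (Nat.mul_le_mul_right _ h3))
    _ = _ := by ring

omit [Finite G] in
theorem card_map_conj (H : Subgroup G) (g : G) :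
    Nat.card (H.map (MulAut.conj g).toMonoidHom : Subgroup G) = Nat.card H :=
  card_map_of_injective (MulEquiv.injective _)

omit [Finite G] in
theorem centralizer_map_conj (H : Subgroup G) (g : G) :
    centralizer ((H.map (MulAut.conj g).toMonoidHom : Subgroup G) : Set G) =
      (centralizer (H : Set G)).map (MulAut.conj g).toMonoidHom := by
  ext x
  simp only [mem_centralizer_iff, Subgroup.mem_map]
  constructor
  · intro h
    refine ⟨g⁻¹ * x * g, fun y hy => ?_, by simp [mul_assoc]⟩
    have h1 : g * y * g⁻¹ * x = x * (g * y * g⁻¹) := h _ ⟨y, hy, rfl⟩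
    calc y * (g⁻¹ * x * g) = g⁻¹ * (g * y * g⁻¹ * x) * g := by group
      _ = g⁻¹ * (x * (g * y * g⁻¹)) * g := by rw [h1]
      _ = g⁻¹ * x * g * y := by group
  · rintro ⟨w, hw, rfl⟩ _ ⟨y, hy, rfl⟩
    show g * y * g⁻¹ * (g * w * g⁻¹) = g * w * g⁻¹ * (g * y * g⁻¹)
    calc g * y * g⁻¹ * (g * w * g⁻¹) = g * (y * w) * g⁻¹ := by group
      _ = g * (w * y) * g⁻¹ := by rw [hw y hy]
      _ = g * w * g⁻¹ * (g * y * g⁻¹) := by group

omit [Finite G] in
theorem measure_map_conj (H : Subgroup G) (g : G) :
    measure (H.map (MulAut.conj g).toMonoidHom) = measure H := by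
  unfold measure
  rw [card_map_conj, centralizer_map_conj, card_map_conj]

end Cfsg.Agent.Product
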