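/-
Groups of characteristic p (C_G(O_p(G)) ≤ O_p(G)) and their subgroups.
-/
import Cfsg.Agent.Lib.CharP.AxB
import Cfsg.Agent.Lib.Transfer.Basic

namespace Cfsg.Agent.CharP

open Subgroup

variable {G : Type*} [Group G]

/-- `L` is of characteristic `p`, phrased inside the ambient group through `p'`-elements. -/
def NoPPrime (p : ℕ) (L : Subgroup G) : Prop :=
  ∀ x ∈ L, (orderOf x).Coprime p → (∀ y ∈ (Cfsg.pCore p L).map L.subtype, x * y = y * x) → x = 1

theorem noPPrime_of_charP [Finite G] {p : ℕ} [Fact p.Prime] (L : Subgroup G)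
    (h : centralizer (Cfsg.pCore p L : Set L) ≤ Cfsg.pCore p L) : NoPPrime p L := by
  intro x hx hc hcomm
  have h1 : (⟨x, hx⟩ : L) ∈ Cfsg.pCore p L := h (mem_centralizer_iff.2 fun y hy =>
    Subtype.ext (hcomm y ⟨y, hy, rfl⟩).symm)
  exact Cfsg.Agent.PBasic.eq_one_of_isPGroup_of_coprime (Cfsg.Agent.AxB.isPGroup_pCoreOf p L)
    ⟨_, h1, rfl⟩ hc

theorem charP_of_noPPrime [Finite G] {p : ℕ} [Fact p.Prime] (L : Subgroup G) (h : NoPPrime p L) :
    centralizer (Cfsg.pCore p L : Set L) ≤ Cfsg.pCore p L := by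
  refine Cfsg.Agent.AxB.le_pCore inferInstance ?_
  rw [Cfsg.Agent.PBasic.isPGroup_iff_forall_coprime]
  rintro ⟨⟨x, hxL⟩, hxc⟩ hx
  rw [Subgroup.orderOf_mk, Subgroup.orderOf_mk] at hx
  refine Subtype.ext (Subtype.ext (h x hxL hx ?_))
  rintro _ ⟨y, hy, rfl⟩
  exact congrArg (fun t : L => (t : G)) ((mem_centralizer_iff.1 hxc y hy).symm)

theorem normalizer_le_normalizer_centralizer (Q : Subgroup G) :
    normalizer (Q : Set G) ≤ normalizer ((centralizer (Q : Set G) : Subgroup G) : Set G) := by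
  have key : ∀ g ∈ normalizer (Q : Set G), ∀ x ∈ centralizer (Q : Set G),
      g * x * g⁻¹ ∈ centralizer (Q : Set G) := by
    intro g hg x hx
    rw [mem_centralizer_iff] at hx ⊢
    intro y hy
    have h1 : g⁻¹ * y * g ∈ Q := by
      simpa using (mem_normalizer_iff.1 (inv_mem hg) y).1 hy
    calc y * (g * x * g⁻¹) = g * ((g⁻¹ * y * g) * x) * g⁻¹ := by group
      _ = g * (x * (g⁻¹ * y * g)) * g⁻¹ := by rw [hx _ h1]
      _ = g * x * g⁻¹ * y := by group
  intro g hg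
  rw [mem_normalizer_iff]
  intro x
  refine ⟨key g hg x, fun h => ?_⟩
  have := key g⁻¹ (inv_mem hg) _ h
  simpa [mul_assoc] using this

theorem le_normalizer_pCoreOf {p : ℕ} (L : Subgroup G) :
    L ≤ normalizer (((Cfsg.pCore p L).map L.subtype : Subgroup G) : Set G) :=
  Cfsg.Agent.AxB.le_normalizer_map_subtype (Cfsg.pCore_normal p L)

/-- If `K` has characteristic `p` and `L ≤ K` is normalised by `O_p(K)` then `L` has characteristic `p`. -/
theorem noPPrime_of_normalized [Finite G] {p : ℕ} [Fact p.Prime] {K L : Subgroup G}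
    (hK : NoPPrime p K) (hLK : L ≤ K)
    (hn : (Cfsg.pCore p K).map K.subtype ≤ normalizer (L : Set G)) : NoPPrime p L := by
  intro x hx hc hcomm
  refine hK x (hLK hx) hc fun q hq => ?_
  set R := (Cfsg.pCore p K).map K.subtype with hR
  have hKR : K ≤ normalizer (R : Set G) := le_normalizer_pCoreOf K
  have hRp : IsPGroup p R := Cfsg.Agent.AxB.isPGroup_pCoreOf p K
  have hd1 : q⁻¹ * (x * q * x⁻¹) ∈ R :=
    mul_mem (inv_mem hq) ((mem_normalizer_iff.1 (hKR (hLK hx)) q).1 hq)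
  have hd2 : q⁻¹ * (x * q * x⁻¹) ∈ L := by
    have := (mem_normalizer_iff.1 (hn (inv_mem hq)) x).1 hx
    simpa [mul_assoc] using mul_mem this (inv_mem hx)
  have hle : R ⊓ L ≤ (Cfsg.pCore p L).map L.subtype := by
    refine Cfsg.Agent.AxB.le_pCoreOf inf_le_right ?_ (hRp.to_le inf_le_left)
    intro g hg
    rw [mem_normalizer_iff]
    intro y
    simp only [mem_inf]
    rw [← mem_normalizer_iff.1 (hKR (hLK hg)) y, ← mem_normalizer_iff.1 (le_normalizer hg) y]
  exact Cfsg.Agent.AxB.commute_of_conj_mem (n := orderOf x) hRp hd1 (hcomm _ (hle ⟨hd1, hd2⟩))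
    (pow_orderOf_eq_one x) hc.symm

theorem noPPrime_top [Finite G] {p : ℕ} [Fact p.Prime]
    (hG : centralizer (Cfsg.pCore p G : Set G) ≤ Cfsg.pCore p G) {x : G}
    (hc : (orderOf x).Coprime p) (h : ∀ y ∈ Cfsg.pCore p G, x * y = y * x) : x = 1 :=
  Cfsg.Agent.PBasic.eq_one_of_isPGroup_of_coprime (Cfsg.Agent.AxB.isPGroup_pCore p)
    (hG (mem_centralizer_iff.2 fun y hy => (h y hy).symm)) hc

theorem noPPrime_of_normalized_top [Finite G] {p : ℕ} [Fact p.Prime]
    (hG : centralizer (Cfsg.pCore p G : Set G) ≤ Cfsg.pCore p G) {L : Subgroup G}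
    (hn : Cfsg.pCore p G ≤ normalizer (L : Set G)) : NoPPrime p L := by
  intro x hx hc hcomm
  refine noPPrime_top hG hc fun q hq => ?_
  have hRn : (Cfsg.pCore p G).Normal := Cfsg.pCore_normal p G
  have hRp : IsPGroup p (Cfsg.pCore p G) := Cfsg.Agent.AxB.isPGroup_pCore p
  have hd1 : q⁻¹ * (x * q * x⁻¹) ∈ Cfsg.pCore p G := mul_mem (inv_mem hq) (hRn.conj_mem q hq x)
  have hd2 : q⁻¹ * (x * q * x⁻¹) ∈ L := by
    have := (mem_normalizer_iff.1 (hn (inv_mem hq)) x).1 hx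
    simpa [mul_assoc] using mul_mem this (inv_mem hx)
  have hle : Cfsg.pCore p G ⊓ L ≤ (Cfsg.pCore p L).map L.subtype := by
    refine Cfsg.Agent.AxB.le_pCoreOf inf_le_right ?_ (hRp.to_le inf_le_left)
    intro g hg
    rw [mem_normalizer_iff]
    intro y
    simp only [mem_inf]
    rw [← mem_normalizer_iff.1 (le_normalizer hg) y]
    exact and_congr_left' ⟨fun h => hRn.conj_mem y h g, fun h => by
      simpa [mul_assoc] using hRn.conj_mem _ h g⁻¹⟩
  exact Cfsg.Agent.AxB.commute_of_conj_mem (n := orderOf x) hRp hd1 (hcomm _ (hle ⟨hd1, hd2⟩))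
    (pow_orderOf_eq_one x) hc.symm

theorem noPPrime_of_isSubnormal [Finite G] {p : ℕ} [Fact p.Prime]
    (hG : centralizer (Cfsg.pCore p G : Set G) ≤ Cfsg.pCore p G) {Y : Subgroup G}
    (hY : Y.IsSubnormal) : NoPPrime p Y := by
  induction hY with
  | top => exact noPPrime_of_normalized_top hG (fun g _ => le_normalizer (mem_top g))
  | step H K h_le _ hN ih =>
    exact noPPrime_of_normalized ih h_le
      ((map_subtype_le _).trans ((normal_subgroupOf_iff_le_normalizer h_le).1 hN))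

/-- In a group of characteristic `p`, a `p`-subgroup `Q` normal in a Sylow `p`-subgroup `T` with
`C_T(Q) ≤ Q` satisfies `C_G(Q) ≤ Q`. -/
theorem centralizer_le [Finite G] {p : ℕ} [Fact p.Prime]
    (hG : centralizer (Cfsg.pCore p G : Set G) ≤ Cfsg.pCore p G) (T : Sylow p G) {Q : Subgroup G}
    (hQT : Q ≤ (T : Subgroup G)) (hQn : (T : Subgroup G) ≤ normalizer (Q : Set G))
    (hC : (T : Subgroup G) ⊓ centralizer (Q : Set G) ≤ Q) : centralizer (Q : Set G) ≤ Q := by
  have hRn : (Cfsg.pCore p G).Normal := Cfsg.pCore_normal p G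
  have hRp : IsPGroup p (Cfsg.pCore p G) := Cfsg.Agent.AxB.isPGroup_pCore p
  have hRT : Cfsg.pCore p G ≤ (T : Subgroup G) := Cfsg.Agent.PBasic.pCore_le_sylow T
  have hCp : IsPGroup p (centralizer (Q : Set G)) := by
    rw [Cfsg.Agent.PBasic.isPGroup_iff_forall_coprime]
    rintro ⟨x, hx⟩ hc
    rw [Subgroup.orderOf_mk] at hc
    refine Subtype.ext (noPPrime_top hG hc ?_)
    refine Cfsg.Agent.AxB.thompson (n := orderOf x) hRp (T.isPGroup'.to_le hQT)
      (fun g _ => by rw [normalizer_eq_top]; exact mem_top g) (fun y hy => hRn.conj_mem y hy x)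
      (fun a ha => mem_centralizer_iff.1 hx a ha) (pow_orderOf_eq_one x) hc.symm ?_
    intro y hy hya
    exact (mem_centralizer_iff.1 hx y (hC ⟨hRT hy, mem_centralizer_iff.2 fun a ha => hya a ha⟩)).symm
  have hle : centralizer (Q : Set G) ≤ (T : Subgroup G) := by
    have hn : (T : Subgroup G) ≤ normalizer ((centralizer (Q : Set G) : Subgroup G) : Set G) :=
      hQn.trans (normalizer_le_normalizer_centralizer Q)
    have h := T.3 (hCp.to_sup_of_normal_left' T.isPGroup' hn) le_sup_right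
    exact le_sup_left.trans h.le
  exact fun x hx => hC ⟨hle hx, hx⟩

/-- In a group of characteristic `p`, every overgroup of such a `Q` has characteristic `p`. -/
theorem noPPrime_of_le [Finite G] {p : ℕ} [Fact p.Prime]
    (hG : centralizer (Cfsg.pCore p G : Set G) ≤ Cfsg.pCore p G) (T : Sylow p G) {Q L : Subgroup G}
    (hQT : Q ≤ (T : Subgroup G)) (hQn : (T : Subgroup G) ≤ normalizer (Q : Set G))
    (hC : (T : Subgroup G) ⊓ centralizer (Q : Set G) ≤ Q) (hQL : Q ≤ L) : NoPPrime p L := by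
  set R := Cfsg.pCore p G with hR
  have hRn : R.Normal := Cfsg.pCore_normal p G
  have hRp : IsPGroup p R := Cfsg.Agent.AxB.isPGroup_pCore p
  have hRT : R ≤ (T : Subgroup G) := Cfsg.Agent.PBasic.pCore_le_sylow T
  set P := (Cfsg.pCore p L).map L.subtype with hP
  have hLP : L ≤ normalizer (P : Set G) := le_normalizer_pCoreOf L
  set M := R ⊓ L with hM
  have hLM : ∀ l ∈ L, ∀ m ∈ M, l * m * l⁻¹ ∈ M := fun l hl m hm =>
    ⟨hRn.conj_mem m hm.1 l, L.mul_mem (L.mul_mem hl hm.2) (L.inv_mem hl)⟩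
  have hMP : M ≤ P := by
    refine Cfsg.Agent.AxB.le_pCoreOf inf_le_right ?_ (hRp.to_le inf_le_left)
    intro g hg
    rw [mem_normalizer_iff]
    refine fun y => ⟨hLM g hg y, fun h => ?_⟩
    have := hLM g⁻¹ (inv_mem hg) _ h
    simpa [mul_assoc] using this
  -- the kernel of `L` on `R / (R ⊓ L)`
  let K : Subgroup G :=
    { carrier := {k | k ∈ L ∧ ∀ r ∈ R, r⁻¹ * k * r * k⁻¹ ∈ M}
      one_mem' := ⟨one_mem _, fun r _ => by simp⟩
      mul_mem' := fun {a b} ha hb => ⟨mul_mem ha.1 hb.1, fun r hr => by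
        have e : r⁻¹ * (a * b) * r * (a * b)⁻¹ =
            (r⁻¹ * a * r * a⁻¹) * (a * (r⁻¹ * b * r * b⁻¹) * a⁻¹) := by group
        rw [e]
        exact mul_mem (ha.2 r hr) (hLM a ha.1 _ (hb.2 r hr))⟩
      inv_mem' := fun {a} ha => ⟨inv_mem ha.1, fun r hr => by
        have e : r⁻¹ * a⁻¹ * r * a⁻¹⁻¹ = a⁻¹ * (r⁻¹ * a * r * a⁻¹)⁻¹ * a⁻¹⁻¹ := by group
        rw [e]
        exact hLM _ (inv_mem ha.1) _ (inv_mem (ha.2 r hr))⟩ }
  have hKconj : ∀ l ∈ L, ∀ k ∈ K, l * k * l⁻¹ ∈ K := by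
    intro l hl k hk
    refine ⟨L.mul_mem (L.mul_mem hl hk.1) (L.inv_mem hl), fun r hr => ?_⟩
    have hr' : l⁻¹ * r * l ∈ R := by simpa using hRn.conj_mem r hr l⁻¹
    have e : r⁻¹ * (l * k * l⁻¹) * r * (l * k * l⁻¹)⁻¹ =
        l * ((l⁻¹ * r * l)⁻¹ * k * (l⁻¹ * r * l) * k⁻¹) * l⁻¹ := by group
    rw [e]
    exact hLM l hl _ (hk.2 _ hr')
  have hQK : Q ≤ K := by
    intro q hq
    refine ⟨hQL hq, fun r hr => ⟨?_, ?_⟩⟩
    · have := hRn.conj_mem r hr q
      simpa [mul_assoc] using mul_mem (inv_mem hr) this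
    · have h1 : r⁻¹ * q * r⁻¹⁻¹ ∈ Q := (mem_normalizer_iff.1 (hQn (hRT (inv_mem hr))) q).1 hq
      rw [inv_inv] at h1
      exact hQL (mul_mem h1 (inv_mem hq))
  set N := K ⊓ centralizer (P : Set G) with hN
  have hNL : N ≤ L := fun y hy => hy.1.1
  have hNn : L ≤ normalizer (N : Set G) := by
    have key : ∀ l ∈ L, ∀ y ∈ N, l * y * l⁻¹ ∈ N := fun l hl y hy =>
      ⟨hKconj l hl y hy.1,
        (mem_normalizer_iff.1 (normalizer_le_normalizer_centralizer P (hLP hl)) y).1 hy.2⟩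
    intro l hl
    rw [mem_normalizer_iff]
    refine fun y => ⟨key l hl y, fun h => ?_⟩
    have := key l⁻¹ (inv_mem hl) _ h
    simpa [mul_assoc] using this
  have hNp : IsPGroup p N := by
    rw [Cfsg.Agent.PBasic.isPGroup_iff_forall_coprime]
    rintro ⟨w, hw⟩ hc
    rw [Subgroup.orderOf_mk] at hc
    refine Subtype.ext (noPPrime_top hG hc fun r hr => ?_)
    have hd : r⁻¹ * (w * r * w⁻¹) ∈ M := by
      have := hw.1.2 r hr
      simpa [mul_assoc] using this
    exact Cfsg.Agent.AxB.commute_of_conj_mem (n := orderOf w) hRp hd.1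
      (mem_centralizer_iff.1 hw.2 _ (hMP hd)).symm (pow_orderOf_eq_one w) hc.symm
  intro x hx hc hcomm
  have hxP : x ∈ centralizer (P : Set G) := mem_centralizer_iff.2 fun y hy => (hcomm y hy).symm
  have hxQ : x ∈ centralizer (Q : Set G) := by
    rw [mem_centralizer_iff]
    intro q hq
    have hqC : q⁻¹ * x * q ∈ centralizer (P : Set G) := by
      have := (mem_normalizer_iff.1 (normalizer_le_normalizer_centralizer P
        (hLP (inv_mem (hQL hq)))) x).1 hxP
      simpa using this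
    have hd : q⁻¹ * (x * q * x⁻¹) ∈ N := by
      refine ⟨K.mul_mem (K.inv_mem (hQK hq)) (hKconj x hx q (hQK hq)), ?_⟩
      simpa [mul_assoc] using mul_mem hqC (inv_mem hxP)
    exact (Cfsg.Agent.AxB.commute_of_conj_mem (n := orderOf x) hNp hd
      (hcomm _ (Cfsg.Agent.AxB.le_pCoreOf hNL hNn hNp hd)) (pow_orderOf_eq_one x) hc.symm).symm
  exact Cfsg.Agent.PBasic.eq_one_of_isPGroup_of_coprime (T.isPGroup'.to_le hQT)
    (centralizer_le hG T hQT hQn hC hxQ) hc

end Cfsg.Agent.CharP
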